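import Cfsg.Agent.Baby.C0
import Cfsg.Agent.Baby.C1
import Cfsg.Agent.Baby.C2
import Cfsg.Agent.Baby.C3
import Cfsg.Agent.Baby.C4
import Cfsg.Agent.Baby.C5
import Cfsg.Agent.Baby.C6
import Cfsg.Agent.Baby.C7
import Cfsg.Agent.Baby.C8
import Cfsg.Agent.Baby.C9
import Cfsg.Agent.Baby.C10
import Cfsg.Agent.Baby.C11
import Cfsg.Agent.Baby.C12
import Cfsg.Agent.Baby.C13
import Cfsg.Agent.Baby.C14
import Cfsg.Agent.Baby.C15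
import Cfsg.Agent.Baby.C16
import Cfsg.Agent.Baby.Kit2
import Cfsg.Agent.Baby.Pres

/-! The representation of the presented Baby Monster of degree 4370 over the field with two elements. -/

set_option autoImplicit false

namespace Cfsg.Lib.Baby

open Cfsg.Lib.Spor.Bulk Cfsg.Lib.Spor.MG Cfsg.Lib.Spor Cfsg.Spor

theorem lin_nil (n S : ℕ) : (⟨Net.nil, []⟩ : Gn).lin n S = 1 := by
  ext v i
  show ext _ (i : ℕ) + 0 = _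
  simp [ext]

theorem BT_inv : BT.Inv := ⟨BT_ok, fun a => match a with
  | 0 => by rw [show BT.f 0 = 1 from lin_nil _ _, one_mul]
  | 1 => by simpa [Tb.pr] using q0.eq_nil BT_ok
  | 2 => by simpa [Tb.pr] using q1.eq_nil BT_ok
  | 3 => by simpa [Tb.pr] using q2.eq_nil BT_ok
  | 4 => by simpa [Tb.pr] using q3.eq_nil BT_ok
  | 5 => by simpa [Tb.pr] using q4.eq_nil BT_ok
  | 6 => by simpa [Tb.pr] using q5.eq_nil BT_ok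
  | 7 => by simpa [Tb.pr] using q6.eq_nil BT_ok
  | 8 => by simpa [Tb.pr] using q7.eq_nil BT_ok
  | 9 => by simpa [Tb.pr] using q8.eq_nil BT_ok
  | 10 => by simpa [Tb.pr] using q9.eq_nil BT_ok
  | 11 => by simpa [Tb.pr] using q10.eq_nil BT_ok
  | a + 12 => by rw [show BT.f (a + 12) = 1 from lin_nil _ _, one_mul]⟩

/-- the generators as invertible linear maps -/
noncomputable def gg : ℕ → (Module.End F2 (Vc BT.n))ˣ := BT_inv.g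

theorem r10 : Cox.Rel gg (mL []) := rel_nil fun s => Units.ext (BT_inv.sq s)
theorem r11 : Cox.Rel gg (mL [(1,10,2)]) :=
  rel_com r10 (BT_inv.eq r10 q11 (by decide +kernel))
theorem r12 : Cox.Rel gg (mL [(1,7,2),(1,10,2)]) :=
  rel_com r11 (BT_inv.eq r11 q12 (by decide +kernel))
theorem r13 : Cox.Rel gg (mL [(7,10,2),(1,7,2),(1,10,2)]) :=
  rel_com r12 (BT_inv.eq r12 q13 (by decide +kernel))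
theorem r14 : Cox.Rel gg (mL [(1,3,2),(7,10,2),(1,7,2),(1,10,2)]) :=
  rel_com r13 (BT_inv.eq r13 q14 (by decide +kernel))
theorem r15 : Cox.Rel gg (mL [(3,10,2),(1,3,2),(7,10,2),(1,7,2),(1,10,2)]) :=
  rel_com r14 (BT_inv.eq r14 q15 (by decide +kernel))
theorem r16 : Cox.Rel gg (mL [(3,7,2),(3,10,2),(1,3,2),(7,10,2),(1,7,2),(1,10,2)]) :=
  rel_com r15 (BT_inv.eq r15 q16 (by decide +kernel))
theorem r17 : Cox.Rel gg (mL [(1,5,2),(3,7,2),(3,10,2),(1,3,2),(7,10,2),(1,7,2),(1,10,2)]) :=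
  rel_com r16 (BT_inv.eq r16 q17 (by decide +kernel))
theorem r18 : Cox.Rel gg (mL [(5,7,2),(1,5,2),(3,7,2),(3,10,2),(1,3,2),(7,10,2),(1,7,2),(1,10,2)]) :=
  rel_com r17 (BT_inv.eq r17 q18 (by decide +kernel))
theorem r19 : Cox.Rel gg (mL [(5,10,2),(5,7,2),(1,5,2),(3,7,2),(3,10,2),(1,3,2),(7,10,2),(1,7,2),(1,10,2)]) :=
  rel_com r18 (BT_inv.eq r18 q19 (by decide +kernel))
theorem r20 : Cox.Rel gg (mL [(3,5,2),(5,10,2),(5,7,2),(1,5,2),(3,7,2),(3,10,2),(1,3,2),(7,10,2),(1,7,2),(1,10,2)]) :=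
  rel_com r19 (BT_inv.eq r19 q20 (by decide +kernel))
theorem r21 : Cox.Rel gg (mL [(1,4,2),(3,5,2),(5,10,2),(5,7,2),(1,5,2),(3,7,2),(3,10,2),(1,3,2),(7,10,2),(1,7,2),(1,10,2)]) :=
  rel_com r20 (BT_inv.eq r20 q21 (by decide +kernel))
theorem r22 : Cox.Rel gg (mL [(4,10,2),(1,4,2),(3,5,2),(5,10,2),(5,7,2),(1,5,2),(3,7,2),(3,10,2),(1,3,2),(7,10,2),(1,7,2),(1,10,2)]) :=
  rel_com r21 (BT_inv.eq r21 q22 (by decide +kernel))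
theorem r23 : Cox.Rel gg (mL [(4,7,2),(4,10,2),(1,4,2),(3,5,2),(5,10,2),(5,7,2),(1,5,2),(3,7,2),(3,10,2),(1,3,2),(7,10,2),(1,7,2),(1,10,2)]) :=
  rel_com r22 (BT_inv.eq r22 q23 (by decide +kernel))
theorem r24 : Cox.Rel gg (mL [(1,6,2),(4,7,2),(4,10,2),(1,4,2),(3,5,2),(5,10,2),(5,7,2),(1,5,2),(3,7,2),(3,10,2),(1,3,2),(7,10,2),(1,7,2),(1,10,2)]) :=
  rel_com r23 (BT_inv.eq r23 q24 (by decide +kernel))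
theorem r25 : Cox.Rel gg (mL [(6,10,2),(1,6,2),(4,7,2),(4,10,2),(1,4,2),(3,5,2),(5,10,2),(5,7,2),(1,5,2),(3,7,2),(3,10,2),(1,3,2),(7,10,2),(1,7,2),(1,10,2)]) :=
  rel_com r24 (BT_inv.eq r24 q25 (by decide +kernel))
theorem r26 : Cox.Rel gg (mL [(3,6,2),(6,10,2),(1,6,2),(4,7,2),(4,10,2),(1,4,2),(3,5,2),(5,10,2),(5,7,2),(1,5,2),(3,7,2),(3,10,2),(1,3,2),(7,10,2),(1,7,2),(1,10,2)]) :=
  rel_com r25 (BT_inv.eq r25 q26 (by decide +kernel))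
theorem r27 : Cox.Rel gg (mL [(4,6,2),(3,6,2),(6,10,2),(1,6,2),(4,7,2),(4,10,2),(1,4,2),(3,5,2),(5,10,2),(5,7,2),(1,5,2),(3,7,2),(3,10,2),(1,3,2),(7,10,2),(1,7,2),(1,10,2)]) :=
  rel_com r26 (BT_inv.eq r26 q27 (by decide +kernel))
theorem r28 : Cox.Rel gg (mL [(1,9,2),(4,6,2),(3,6,2),(6,10,2),(1,6,2),(4,7,2),(4,10,2),(1,4,2),(3,5,2),(5,10,2),(5,7,2),(1,5,2),(3,7,2),(3,10,2),(1,3,2),(7,10,2),(1,7,2),(1,10,2)]) :=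
  rel_com r27 (BT_inv.eq r27 q28 (by decide +kernel))
theorem r29 : Cox.Rel gg (mL [(7,9,2),(1,9,2),(4,6,2),(3,6,2),(6,10,2),(1,6,2),(4,7,2),(4,10,2),(1,4,2),(3,5,2),(5,10,2),(5,7,2),(1,5,2),(3,7,2),(3,10,2),(1,3,2),(7,10,2),(1,7,2),(1,10,2)]) :=
  rel_com r28 (BT_inv.eq r28 q29 (by decide +kernel))
theorem r30 : Cox.Rel gg (mL [(3,9,2),(7,9,2),(1,9,2),(4,6,2),(3,6,2),(6,10,2),(1,6,2),(4,7,2),(4,10,2),(1,4,2),(3,5,2),(5,10,2),(5,7,2),(1,5,2),(3,7,2),(3,10,2),(1,3,2),(7,10,2),(1,7,2),(1,10,2)]) :=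
  rel_com r29 (BT_inv.eq r29 q30 (by decide +kernel))
theorem r31 : Cox.Rel gg (mL [(6,9,2),(3,9,2),(7,9,2),(1,9,2),(4,6,2),(3,6,2),(6,10,2),(1,6,2),(4,7,2),(4,10,2),(1,4,2),(3,5,2),(5,10,2),(5,7,2),(1,5,2),(3,7,2),(3,10,2),(1,3,2),(7,10,2),(1,7,2),(1,10,2)]) :=
  rel_com r30 (BT_inv.eq r30 q31 (by decide +kernel))
theorem r32 : Cox.Rel gg (mL [(4,9,2),(6,9,2),(3,9,2),(7,9,2),(1,9,2),(4,6,2),(3,6,2),(6,10,2),(1,6,2),(4,7,2),(4,10,2),(1,4,2),(3,5,2),(5,10,2),(5,7,2),(1,5,2),(3,7,2),(3,10,2),(1,3,2),(7,10,2),(1,7,2),(1,10,2)]) :=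
  rel_com r31 (BT_inv.eq r31 q32 (by decide +kernel))
theorem r33 : Cox.Rel gg (mL [(2,10,2),(4,9,2),(6,9,2),(3,9,2),(7,9,2),(1,9,2),(4,6,2),(3,6,2),(6,10,2),(1,6,2),(4,7,2),(4,10,2),(1,4,2),(3,5,2),(5,10,2),(5,7,2),(1,5,2),(3,7,2),(3,10,2),(1,3,2),(7,10,2),(1,7,2),(1,10,2)]) :=
  rel_com r32 (BT_inv.eq r32 q33 (by decide +kernel))
theorem r34 : Cox.Rel gg (mL [(2,7,2),(2,10,2),(4,9,2),(6,9,2),(3,9,2),(7,9,2),(1,9,2),(4,6,2),(3,6,2),(6,10,2),(1,6,2),(4,7,2),(4,10,2),(1,4,2),(3,5,2),(5,10,2),(5,7,2),(1,5,2),(3,7,2),(3,10,2),(1,3,2),(7,10,2),(1,7,2),(1,10,2)]) :=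
  rel_com r33 (BT_inv.eq r33 q34 (by decide +kernel))
theorem r35 : Cox.Rel gg (mL [(2,5,2),(2,7,2),(2,10,2),(4,9,2),(6,9,2),(3,9,2),(7,9,2),(1,9,2),(4,6,2),(3,6,2),(6,10,2),(1,6,2),(4,7,2),(4,10,2),(1,4,2),(3,5,2),(5,10,2),(5,7,2),(1,5,2),(3,7,2),(3,10,2),(1,3,2),(7,10,2),(1,7,2),(1,10,2)]) :=
  rel_com r34 (BT_inv.eq r34 q35 (by decide +kernel))
theorem r36 : Cox.Rel gg (mL [(2,4,2),(2,5,2),(2,7,2),(2,10,2),(4,9,2),(6,9,2),(3,9,2),(7,9,2),(1,9,2),(4,6,2),(3,6,2),(6,10,2),(1,6,2),(4,7,2),(4,10,2),(1,4,2),(3,5,2),(5,10,2),(5,7,2),(1,5,2),(3,7,2),(3,10,2),(1,3,2),(7,10,2),(1,7,2),(1,10,2)]) :=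
  rel_com r35 (BT_inv.eq r35 q36 (by decide +kernel))
theorem r37 : Cox.Rel gg (mL [(2,6,2),(2,4,2),(2,5,2),(2,7,2),(2,10,2),(4,9,2),(6,9,2),(3,9,2),(7,9,2),(1,9,2),(4,6,2),(3,6,2),(6,10,2),(1,6,2),(4,7,2),(4,10,2),(1,4,2),(3,5,2),(5,10,2),(5,7,2),(1,5,2),(3,7,2),(3,10,2),(1,3,2),(7,10,2),(1,7,2),(1,10,2)]) :=
  rel_com r36 (BT_inv.eq r36 q37 (by decide +kernel))
theorem r38 : Cox.Rel gg (mL [(2,9,2),(2,6,2),(2,4,2),(2,5,2),(2,7,2),(2,10,2),(4,9,2),(6,9,2),(3,9,2),(7,9,2),(1,9,2),(4,6,2),(3,6,2),(6,10,2),(1,6,2),(4,7,2),(4,10,2),(1,4,2),(3,5,2),(5,10,2),(5,7,2),(1,5,2),(3,7,2),(3,10,2),(1,3,2),(7,10,2),(1,7,2),(1,10,2)]) :=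
  rel_com r37 (BT_inv.eq r37 q38 (by decide +kernel))
theorem r39 : Cox.Rel gg (mL [(1,8,2),(2,9,2),(2,6,2),(2,4,2),(2,5,2),(2,7,2),(2,10,2),(4,9,2),(6,9,2),(3,9,2),(7,9,2),(1,9,2),(4,6,2),(3,6,2),(6,10,2),(1,6,2),(4,7,2),(4,10,2),(1,4,2),(3,5,2),(5,10,2),(5,7,2),(1,5,2),(3,7,2),(3,10,2),(1,3,2),(7,10,2),(1,7,2),(1,10,2)]) :=
  rel_com r38 (BT_inv.eq r38 q39 (by decide +kernel))
theorem r40 : Cox.Rel gg (mL [(8,10,2),(1,8,2),(2,9,2),(2,6,2),(2,4,2),(2,5,2),(2,7,2),(2,10,2),(4,9,2),(6,9,2),(3,9,2),(7,9,2),(1,9,2),(4,6,2),(3,6,2),(6,10,2),(1,6,2),(4,7,2),(4,10,2),(1,4,2),(3,5,2),(5,10,2),(5,7,2),(1,5,2),(3,7,2),(3,10,2),(1,3,2),(7,10,2),(1,7,2),(1,10,2)]) :=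
  rel_com r39 (BT_inv.eq r39 q40 (by decide +kernel))
theorem r41 : Cox.Rel gg (mL [(3,8,2),(8,10,2),(1,8,2),(2,9,2),(2,6,2),(2,4,2),(2,5,2),(2,7,2),(2,10,2),(4,9,2),(6,9,2),(3,9,2),(7,9,2),(1,9,2),(4,6,2),(3,6,2),(6,10,2),(1,6,2),(4,7,2),(4,10,2),(1,4,2),(3,5,2),(5,10,2),(5,7,2),(1,5,2),(3,7,2),(3,10,2),(1,3,2),(7,10,2),(1,7,2),(1,10,2)]) :=
  rel_com r40 (BT_inv.eq r40 q41 (by decide +kernel))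
theorem r42 : Cox.Rel gg (mL [(5,8,2),(3,8,2),(8,10,2),(1,8,2),(2,9,2),(2,6,2),(2,4,2),(2,5,2),(2,7,2),(2,10,2),(4,9,2),(6,9,2),(3,9,2),(7,9,2),(1,9,2),(4,6,2),(3,6,2),(6,10,2),(1,6,2),(4,7,2),(4,10,2),(1,4,2),(3,5,2),(5,10,2),(5,7,2),(1,5,2),(3,7,2),(3,10,2),(1,3,2),(7,10,2),(1,7,2),(1,10,2)]) :=
  rel_com r41 (BT_inv.eq r41 q42 (by decide +kernel))
theorem r43 : Cox.Rel gg (mL [(6,8,2),(5,8,2),(3,8,2),(8,10,2),(1,8,2),(2,9,2),(2,6,2),(2,4,2),(2,5,2),(2,7,2),(2,10,2),(4,9,2),(6,9,2),(3,9,2),(7,9,2),(1,9,2),(4,6,2),(3,6,2),(6,10,2),(1,6,2),(4,7,2),(4,10,2),(1,4,2),(3,5,2),(5,10,2),(5,7,2),(1,5,2),(3,7,2),(3,10,2),(1,3,2),(7,10,2),(1,7,2),(1,10,2)]) :=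
  rel_com r42 (BT_inv.eq r42 q43 (by decide +kernel))
theorem r44 : Cox.Rel gg (mL [(2,8,2),(6,8,2),(5,8,2),(3,8,2),(8,10,2),(1,8,2),(2,9,2),(2,6,2),(2,4,2),(2,5,2),(2,7,2),(2,10,2),(4,9,2),(6,9,2),(3,9,2),(7,9,2),(1,9,2),(4,6,2),(3,6,2),(6,10,2),(1,6,2),(4,7,2),(4,10,2),(1,4,2),(3,5,2),(5,10,2),(5,7,2),(1,5,2),(3,7,2),(3,10,2),(1,3,2),(7,10,2),(1,7,2),(1,10,2)]) :=
  rel_com r43 (BT_inv.eq r43 q44 (by decide +kernel))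
theorem r45 : Cox.Rel gg (mL [(8,9,2),(2,8,2),(6,8,2),(5,8,2),(3,8,2),(8,10,2),(1,8,2),(2,9,2),(2,6,2),(2,4,2),(2,5,2),(2,7,2),(2,10,2),(4,9,2),(6,9,2),(3,9,2),(7,9,2),(1,9,2),(4,6,2),(3,6,2),(6,10,2),(1,6,2),(4,7,2),(4,10,2),(1,4,2),(3,5,2),(5,10,2),(5,7,2),(1,5,2),(3,7,2),(3,10,2),(1,3,2),(7,10,2),(1,7,2),(1,10,2)]) :=
  rel_com r44 (BT_inv.eq r44 q45 (by decide +kernel))
theorem r46 : Cox.Rel gg (mL [(4,8,2),(8,9,2),(2,8,2),(6,8,2),(5,8,2),(3,8,2),(8,10,2),(1,8,2),(2,9,2),(2,6,2),(2,4,2),(2,5,2),(2,7,2),(2,10,2),(4,9,2),(6,9,2),(3,9,2),(7,9,2),(1,9,2),(4,6,2),(3,6,2),(6,10,2),(1,6,2),(4,7,2),(4,10,2),(1,4,2),(3,5,2),(5,10,2),(5,7,2),(1,5,2),(3,7,2),(3,10,2),(1,3,2),(7,10,2),(1,7,2),(1,10,2)]) :=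
  rel_com r45 (BT_inv.eq r45 q46 (by decide +kernel))
theorem r47 : Cox.Rel gg (mL [(1,11,2),(4,8,2),(8,9,2),(2,8,2),(6,8,2),(5,8,2),(3,8,2),(8,10,2),(1,8,2),(2,9,2),(2,6,2),(2,4,2),(2,5,2),(2,7,2),(2,10,2),(4,9,2),(6,9,2),(3,9,2),(7,9,2),(1,9,2),(4,6,2),(3,6,2),(6,10,2),(1,6,2),(4,7,2),(4,10,2),(1,4,2),(3,5,2),(5,10,2),(5,7,2),(1,5,2),(3,7,2),(3,10,2),(1,3,2),(7,10,2),(1,7,2),(1,10,2)]) :=
  rel_com r46 (BT_inv.eq r46 q47 (by decide +kernel))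
theorem r48 : Cox.Rel gg (mL [(7,11,2),(1,11,2),(4,8,2),(8,9,2),(2,8,2),(6,8,2),(5,8,2),(3,8,2),(8,10,2),(1,8,2),(2,9,2),(2,6,2),(2,4,2),(2,5,2),(2,7,2),(2,10,2),(4,9,2),(6,9,2),(3,9,2),(7,9,2),(1,9,2),(4,6,2),(3,6,2),(6,10,2),(1,6,2),(4,7,2),(4,10,2),(1,4,2),(3,5,2),(5,10,2),(5,7,2),(1,5,2),(3,7,2),(3,10,2),(1,3,2),(7,10,2),(1,7,2),(1,10,2)]) :=
  rel_com r47 (BT_inv.eq r47 q48 (by decide +kernel))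
theorem r49 : Cox.Rel gg (mL [(3,11,2),(7,11,2),(1,11,2),(4,8,2),(8,9,2),(2,8,2),(6,8,2),(5,8,2),(3,8,2),(8,10,2),(1,8,2),(2,9,2),(2,6,2),(2,4,2),(2,5,2),(2,7,2),(2,10,2),(4,9,2),(6,9,2),(3,9,2),(7,9,2),(1,9,2),(4,6,2),(3,6,2),(6,10,2),(1,6,2),(4,7,2),(4,10,2),(1,4,2),(3,5,2),(5,10,2),(5,7,2),(1,5,2),(3,7,2),(3,10,2),(1,3,2),(7,10,2),(1,7,2),(1,10,2)]) :=
  rel_com r48 (BT_inv.eq r48 q49 (by decide +kernel))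
theorem r50 : Cox.Rel gg (mL [(5,11,2),(3,11,2),(7,11,2),(1,11,2),(4,8,2),(8,9,2),(2,8,2),(6,8,2),(5,8,2),(3,8,2),(8,10,2),(1,8,2),(2,9,2),(2,6,2),(2,4,2),(2,5,2),(2,7,2),(2,10,2),(4,9,2),(6,9,2),(3,9,2),(7,9,2),(1,9,2),(4,6,2),(3,6,2),(6,10,2),(1,6,2),(4,7,2),(4,10,2),(1,4,2),(3,5,2),(5,10,2),(5,7,2),(1,5,2),(3,7,2),(3,10,2),(1,3,2),(7,10,2),(1,7,2),(1,10,2)]) :=
  rel_com r49 (BT_inv.eq r49 q50 (by decide +kernel))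
theorem r51 : Cox.Rel gg (mL [(9,11,2),(5,11,2),(3,11,2),(7,11,2),(1,11,2),(4,8,2),(8,9,2),(2,8,2),(6,8,2),(5,8,2),(3,8,2),(8,10,2),(1,8,2),(2,9,2),(2,6,2),(2,4,2),(2,5,2),(2,7,2),(2,10,2),(4,9,2),(6,9,2),(3,9,2),(7,9,2),(1,9,2),(4,6,2),(3,6,2),(6,10,2),(1,6,2),(4,7,2),(4,10,2),(1,4,2),(3,5,2),(5,10,2),(5,7,2),(1,5,2),(3,7,2),(3,10,2),(1,3,2),(7,10,2),(1,7,2),(1,10,2)]) :=
  rel_com r50 (BT_inv.eq r50 q51 (by decide +kernel))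
theorem r52 : Cox.Rel gg (mL [(8,11,2),(9,11,2),(5,11,2),(3,11,2),(7,11,2),(1,11,2),(4,8,2),(8,9,2),(2,8,2),(6,8,2),(5,8,2),(3,8,2),(8,10,2),(1,8,2),(2,9,2),(2,6,2),(2,4,2),(2,5,2),(2,7,2),(2,10,2),(4,9,2),(6,9,2),(3,9,2),(7,9,2),(1,9,2),(4,6,2),(3,6,2),(6,10,2),(1,6,2),(4,7,2),(4,10,2),(1,4,2),(3,5,2),(5,10,2),(5,7,2),(1,5,2),(3,7,2),(3,10,2),(1,3,2),(7,10,2),(1,7,2),(1,10,2)]) :=
  rel_com r51 (BT_inv.eq r51 q52 (by decide +kernel))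
theorem r53 : Cox.Rel gg (mL [(2,11,2),(8,11,2),(9,11,2),(5,11,2),(3,11,2),(7,11,2),(1,11,2),(4,8,2),(8,9,2),(2,8,2),(6,8,2),(5,8,2),(3,8,2),(8,10,2),(1,8,2),(2,9,2),(2,6,2),(2,4,2),(2,5,2),(2,7,2),(2,10,2),(4,9,2),(6,9,2),(3,9,2),(7,9,2),(1,9,2),(4,6,2),(3,6,2),(6,10,2),(1,6,2),(4,7,2),(4,10,2),(1,4,2),(3,5,2),(5,10,2),(5,7,2),(1,5,2),(3,7,2),(3,10,2),(1,3,2),(7,10,2),(1,7,2),(1,10,2)]) :=
  rel_com r52 (BT_inv.eq r52 q53 (by decide +kernel))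
theorem r54 : Cox.Rel gg (mL [(6,11,2),(2,11,2),(8,11,2),(9,11,2),(5,11,2),(3,11,2),(7,11,2),(1,11,2),(4,8,2),(8,9,2),(2,8,2),(6,8,2),(5,8,2),(3,8,2),(8,10,2),(1,8,2),(2,9,2),(2,6,2),(2,4,2),(2,5,2),(2,7,2),(2,10,2),(4,9,2),(6,9,2),(3,9,2),(7,9,2),(1,9,2),(4,6,2),(3,6,2),(6,10,2),(1,6,2),(4,7,2),(4,10,2),(1,4,2),(3,5,2),(5,10,2),(5,7,2),(1,5,2),(3,7,2),(3,10,2),(1,3,2),(7,10,2),(1,7,2),(1,10,2)]) :=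
  rel_com r53 (BT_inv.eq r53 q54 (by decide +kernel))
theorem r55 : Cox.Rel gg (mL [(4,11,2),(6,11,2),(2,11,2),(8,11,2),(9,11,2),(5,11,2),(3,11,2),(7,11,2),(1,11,2),(4,8,2),(8,9,2),(2,8,2),(6,8,2),(5,8,2),(3,8,2),(8,10,2),(1,8,2),(2,9,2),(2,6,2),(2,4,2),(2,5,2),(2,7,2),(2,10,2),(4,9,2),(6,9,2),(3,9,2),(7,9,2),(1,9,2),(4,6,2),(3,6,2),(6,10,2),(1,6,2),(4,7,2),(4,10,2),(1,4,2),(3,5,2),(5,10,2),(5,7,2),(1,5,2),(3,7,2),(3,10,2),(1,3,2),(7,10,2),(1,7,2),(1,10,2)]) :=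
  rel_com r54 (BT_inv.eq r54 q55 (by decide +kernel))
theorem r56 : Cox.Rel gg (mL [(1,2,3),(4,11,2),(6,11,2),(2,11,2),(8,11,2),(9,11,2),(5,11,2),(3,11,2),(7,11,2),(1,11,2),(4,8,2),(8,9,2),(2,8,2),(6,8,2),(5,8,2),(3,8,2),(8,10,2),(1,8,2),(2,9,2),(2,6,2),(2,4,2),(2,5,2),(2,7,2),(2,10,2),(4,9,2),(6,9,2),(3,9,2),(7,9,2),(1,9,2),(4,6,2),(3,6,2),(6,10,2),(1,6,2),(4,7,2),(4,10,2),(1,4,2),(3,5,2),(5,10,2),(5,7,2),(1,5,2),(3,7,2),(3,10,2),(1,3,2),(7,10,2),(1,7,2),(1,10,2)]) :=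
  rel_braid r55 (BT_inv.eq r55 q56 (by decide +kernel))
theorem r57 : Cox.Rel gg (mL [(7,8,3),(1,2,3),(4,11,2),(6,11,2),(2,11,2),(8,11,2),(9,11,2),(5,11,2),(3,11,2),(7,11,2),(1,11,2),(4,8,2),(8,9,2),(2,8,2),(6,8,2),(5,8,2),(3,8,2),(8,10,2),(1,8,2),(2,9,2),(2,6,2),(2,4,2),(2,5,2),(2,7,2),(2,10,2),(4,9,2),(6,9,2),(3,9,2),(7,9,2),(1,9,2),(4,6,2),(3,6,2),(6,10,2),(1,6,2),(4,7,2),(4,10,2),(1,4,2),(3,5,2),(5,10,2),(5,7,2),(1,5,2),(3,7,2),(3,10,2),(1,3,2),(7,10,2),(1,7,2),(1,10,2)]) :=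
  rel_braid r56 (BT_inv.eq r56 q57 (by decide +kernel))
theorem r58 : Cox.Rel gg (mL [(10,11,3),(7,8,3),(1,2,3),(4,11,2),(6,11,2),(2,11,2),(8,11,2),(9,11,2),(5,11,2),(3,11,2),(7,11,2),(1,11,2),(4,8,2),(8,9,2),(2,8,2),(6,8,2),(5,8,2),(3,8,2),(8,10,2),(1,8,2),(2,9,2),(2,6,2),(2,4,2),(2,5,2),(2,7,2),(2,10,2),(4,9,2),(6,9,2),(3,9,2),(7,9,2),(1,9,2),(4,6,2),(3,6,2),(6,10,2),(1,6,2),(4,7,2),(4,10,2),(1,4,2),(3,5,2),(5,10,2),(5,7,2),(1,5,2),(3,7,2),(3,10,2),(1,3,2),(7,10,2),(1,7,2),(1,10,2)]) :=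
  rel_braid r57 (BT_inv.eq r57 q58 (by decide +kernel))
theorem r59 : Cox.Rel gg (mL [(2,3,3),(10,11,3),(7,8,3),(1,2,3),(4,11,2),(6,11,2),(2,11,2),(8,11,2),(9,11,2),(5,11,2),(3,11,2),(7,11,2),(1,11,2),(4,8,2),(8,9,2),(2,8,2),(6,8,2),(5,8,2),(3,8,2),(8,10,2),(1,8,2),(2,9,2),(2,6,2),(2,4,2),(2,5,2),(2,7,2),(2,10,2),(4,9,2),(6,9,2),(3,9,2),(7,9,2),(1,9,2),(4,6,2),(3,6,2),(6,10,2),(1,6,2),(4,7,2),(4,10,2),(1,4,2),(3,5,2),(5,10,2),(5,7,2),(1,5,2),(3,7,2),(3,10,2),(1,3,2),(7,10,2),(1,7,2),(1,10,2)]) :=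
  rel_braid r58 (BT_inv.eq r58 q59 (by decide +kernel))
theorem r60 : Cox.Rel gg (mL [(6,7,3),(2,3,3),(10,11,3),(7,8,3),(1,2,3),(4,11,2),(6,11,2),(2,11,2),(8,11,2),(9,11,2),(5,11,2),(3,11,2),(7,11,2),(1,11,2),(4,8,2),(8,9,2),(2,8,2),(6,8,2),(5,8,2),(3,8,2),(8,10,2),(1,8,2),(2,9,2),(2,6,2),(2,4,2),(2,5,2),(2,7,2),(2,10,2),(4,9,2),(6,9,2),(3,9,2),(7,9,2),(1,9,2),(4,6,2),(3,6,2),(6,10,2),(1,6,2),(4,7,2),(4,10,2),(1,4,2),(3,5,2),(5,10,2),(5,7,2),(1,5,2),(3,7,2),(3,10,2),(1,3,2),(7,10,2),(1,7,2),(1,10,2)]) :=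
  rel_braid r59 (BT_inv.eq r59 q60 (by decide +kernel))
theorem r61 : Cox.Rel gg (mL [(9,10,3),(6,7,3),(2,3,3),(10,11,3),(7,8,3),(1,2,3),(4,11,2),(6,11,2),(2,11,2),(8,11,2),(9,11,2),(5,11,2),(3,11,2),(7,11,2),(1,11,2),(4,8,2),(8,9,2),(2,8,2),(6,8,2),(5,8,2),(3,8,2),(8,10,2),(1,8,2),(2,9,2),(2,6,2),(2,4,2),(2,5,2),(2,7,2),(2,10,2),(4,9,2),(6,9,2),(3,9,2),(7,9,2),(1,9,2),(4,6,2),(3,6,2),(6,10,2),(1,6,2),(4,7,2),(4,10,2),(1,4,2),(3,5,2),(5,10,2),(5,7,2),(1,5,2),(3,7,2),(3,10,2),(1,3,2),(7,10,2),(1,7,2),(1,10,2)]) :=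
  rel_braid r60 (BT_inv.eq r60 q61 (by decide +kernel))
theorem r62 : Cox.Rel gg (mL [(3,4,3),(9,10,3),(6,7,3),(2,3,3),(10,11,3),(7,8,3),(1,2,3),(4,11,2),(6,11,2),(2,11,2),(8,11,2),(9,11,2),(5,11,2),(3,11,2),(7,11,2),(1,11,2),(4,8,2),(8,9,2),(2,8,2),(6,8,2),(5,8,2),(3,8,2),(8,10,2),(1,8,2),(2,9,2),(2,6,2),(2,4,2),(2,5,2),(2,7,2),(2,10,2),(4,9,2),(6,9,2),(3,9,2),(7,9,2),(1,9,2),(4,6,2),(3,6,2),(6,10,2),(1,6,2),(4,7,2),(4,10,2),(1,4,2),(3,5,2),(5,10,2),(5,7,2),(1,5,2),(3,7,2),(3,10,2),(1,3,2),(7,10,2),(1,7,2),(1,10,2)]) :=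
  rel_braid r61 (BT_inv.eq r61 q62 (by decide +kernel))
theorem r63 : Cox.Rel gg (mL [(5,9,3),(3,4,3),(9,10,3),(6,7,3),(2,3,3),(10,11,3),(7,8,3),(1,2,3),(4,11,2),(6,11,2),(2,11,2),(8,11,2),(9,11,2),(5,11,2),(3,11,2),(7,11,2),(1,11,2),(4,8,2),(8,9,2),(2,8,2),(6,8,2),(5,8,2),(3,8,2),(8,10,2),(1,8,2),(2,9,2),(2,6,2),(2,4,2),(2,5,2),(2,7,2),(2,10,2),(4,9,2),(6,9,2),(3,9,2),(7,9,2),(1,9,2),(4,6,2),(3,6,2),(6,10,2),(1,6,2),(4,7,2),(4,10,2),(1,4,2),(3,5,2),(5,10,2),(5,7,2),(1,5,2),(3,7,2),(3,10,2),(1,3,2),(7,10,2),(1,7,2),(1,10,2)]) :=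
  rel_braid r62 (BT_inv.eq r62 q63 (by decide +kernel))
theorem r64 : Cox.Rel gg (mL [(5,6,3),(5,9,3),(3,4,3),(9,10,3),(6,7,3),(2,3,3),(10,11,3),(7,8,3),(1,2,3),(4,11,2),(6,11,2),(2,11,2),(8,11,2),(9,11,2),(5,11,2),(3,11,2),(7,11,2),(1,11,2),(4,8,2),(8,9,2),(2,8,2),(6,8,2),(5,8,2),(3,8,2),(8,10,2),(1,8,2),(2,9,2),(2,6,2),(2,4,2),(2,5,2),(2,7,2),(2,10,2),(4,9,2),(6,9,2),(3,9,2),(7,9,2),(1,9,2),(4,6,2),(3,6,2),(6,10,2),(1,6,2),(4,7,2),(4,10,2),(1,4,2),(3,5,2),(5,10,2),(5,7,2),(1,5,2),(3,7,2),(3,10,2),(1,3,2),(7,10,2),(1,7,2),(1,10,2)]) :=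
  rel_braid r63 (BT_inv.eq r63 q64 (by decide +kernel))
theorem r65 : Cox.Rel gg (mL [(4,5,3),(5,6,3),(5,9,3),(3,4,3),(9,10,3),(6,7,3),(2,3,3),(10,11,3),(7,8,3),(1,2,3),(4,11,2),(6,11,2),(2,11,2),(8,11,2),(9,11,2),(5,11,2),(3,11,2),(7,11,2),(1,11,2),(4,8,2),(8,9,2),(2,8,2),(6,8,2),(5,8,2),(3,8,2),(8,10,2),(1,8,2),(2,9,2),(2,6,2),(2,4,2),(2,5,2),(2,7,2),(2,10,2),(4,9,2),(6,9,2),(3,9,2),(7,9,2),(1,9,2),(4,6,2),(3,6,2),(6,10,2),(1,6,2),(4,7,2),(4,10,2),(1,4,2),(3,5,2),(5,10,2),(5,7,2),(1,5,2),(3,7,2),(3,10,2),(1,3,2),(7,10,2),(1,7,2),(1,10,2)]) :=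
  rel_braid r64 (BT_inv.eq r64 q65 (by decide +kernel))

theorem rel : Cox.Rel gg mY := rel_of_le r65 fun s t => by
  by_cases ht : t < 16
  · by_cases hs : s < 12
    · have : ∀ s < 12, ∀ t < 16, mY s t = 0 ∨ mY s t = mL [(4,5,3),(5,6,3),(5,9,3),(3,4,3),(9,10,3),(6,7,3),(2,3,3),(10,11,3),(7,8,3),(1,2,3),(4,11,2),(6,11,2),(2,11,2),(8,11,2),(9,11,2),(5,11,2),(3,11,2),(7,11,2),(1,11,2),(4,8,2),(8,9,2),(2,8,2),(6,8,2),(5,8,2),(3,8,2),(8,10,2),(1,8,2),(2,9,2),(2,6,2),(2,4,2),(2,5,2),(2,7,2),(2,10,2),(4,9,2),(6,9,2),(3,9,2),(7,9,2),(1,9,2),(4,6,2),(3,6,2),(6,10,2),(1,6,2),(4,7,2),(4,10,2),(1,4,2),(3,5,2),(5,10,2),(5,7,2),(1,5,2),(3,7,2),(3,10,2),(1,3,2),(7,10,2),(1,7,2),(1,10,2)] s t := by decide +kernel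
      exact this s hs t ht
    · left
      obtain ⟨s, rfl⟩ := Nat.exists_eq_add_of_le' (not_lt.1 hs)
      show (_ >>> (2 * (16 * (s + 12) + t))) % _ = 0
      rw [Nat.shiftRight_eq_div_pow, Nat.div_eq_of_lt, Nat.zero_mod]
      exact lt_of_lt_of_le (by decide +kernel) (Nat.pow_le_pow_right two_pos (show 384 ≤ _ by omega))
  · left
    show _ % (cond (Nat.blt t 16) 4 1) = 0
    rw [show Nat.blt t 16 = false by rw [← Bool.not_eq_true, Nat.blt_eq]; exact ht]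
    exact Nat.mod_one _

theorem one_of {G : Type*} [Group G] {g : ℕ → G} {m : ℕ → ℕ → ℕ} (h : Cox.Rel g m) {w w' u : List ℕ}
    (e : (w.map g).prod = (w'.map g).prod) (hu : u = w ++ w'.reverse) : (u.map g).prod = 1 := by
  rw [hu, List.map_append, List.prod_append, h.prod_reverse, e, mul_inv_cancel]

theorem exists_end : ∃ φ : BabyMonster →* (Module.End F2 (Vc BT.n))ˣ,
    ∀ x, φ (PresentedGroup.of x) = gg (lt x) :=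
  exists_hom_of_rel rel (spider_of rel (one_of rel (BT_inv.eq rel q68 (by decide +kernel)) (by decide +kernel)))
    (by rw [← prod_pw]; exact one_of rel (BT_inv.eq rel q66 (by decide +kernel)) (by decide +kernel))
    (by rw [← prod_pw]; exact one_of rel (BT_inv.eq rel q67 (by decide +kernel)) (by decide +kernel))

theorem gg_one_ne : gg 1 ≠ 1 := fun h => by
  have h1 : BT.pr [1] = 1 := by rw [← BT_inv.coe_prod]; simpa [gg] using h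
  have h2 := BT_ok.ev [1] (x := 2 ^ 750) (by decide +kernel)
  rw [h1] at h2
  exact absurd (vd_inj h2.1 (by decide +kernel) h2.2) (by decide +kernel)

/-- A nontrivial representation of degree 4370 of the presented group. -/
theorem exists_model : ∃ f : BabyMonster →* GL (Fin 4370) (ZMod 2), f (PresentedGroup.of .t1) ≠ 1 := by
  obtain ⟨φ, h⟩ := exists_end
  refine ⟨(Matrix.GeneralLinearGroup.toLin (n := Fin 4370) (R := ZMod 2)).symm.toMonoidHom.comp φ, fun e => ?_⟩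
  exact gg_one_ne ((h .t1).symm.trans ((MulEquiv.map_eq_one_iff
    (Matrix.GeneralLinearGroup.toLin (n := Fin 4370) (R := ZMod 2)).symm).1 e))

end Cfsg.Lib.Baby
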